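import Mathlib.RingTheory.PowerSeries.Order
import Mathlib.RingTheory.PowerSeries.Inverse
import Mathlib.RingTheory.Nakayama
import Mathlib.LinearAlgebra.Dimension.Constructions
import Mathlib.Tactic.Ring
import Mathlib.Tactic.LinearCombination

/-! Value sets of subspaces of `k[[t]]`. -/

universe u

namespace Groth.Agent.TFCurvSG

open PowerSeries

variable {k : Type u} [Field k]

/-- Series of order at least `j`. -/
def high (j : ℕ) : Submodule k (PowerSeries k) where
  carrier := {f | (j : ℕ∞) ≤ f.order}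
  zero_mem' := by simp
  add_mem' {a b} ha hb := le_trans (le_min ha hb) (min_order_le_order_add a b)
  smul_mem' c f hf := le_trans hf (le_order_smul (a := c))

theorem mem_high {j : ℕ} {f : PowerSeries k} : f ∈ high j ↔ (j : ℕ∞) ≤ f.order := Iff.rfl

/-- Finite descent on orders. -/
theorem descent {W : Submodule k (PowerSeries k)} {c c' : ℕ}
    (hbig : high c ≤ W) (hV : ∀ n, c' ≤ n → n < c → ∃ w ∈ W, PowerSeries.order w = n) :
    high c' ≤ W := by
  have key : ∀ d n, c' ≤ n → c ≤ n + d → high n ≤ W := by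
    intro d
    induction d with
    | zero => intro n _ hn f hf; exact hbig (show (c : ℕ∞) ≤ f.order from (Nat.cast_le.2 (by omega : c ≤ n)).trans hf)
    | succ d ih =>
      intro n hn hd f hf
      by_cases hnc : c ≤ n
      · exact hbig (show (c : ℕ∞) ≤ f.order from (Nat.cast_le.2 hnc).trans hf)
      obtain ⟨w, hw, hwo⟩ := hV n hn (by omega)
      obtain ⟨hw1, hw2⟩ := order_eq_nat.1 hwo
      let a := coeff n f / coeff n w
      have hmem : f - a • w ∈ high (n + 1) := by
        refine nat_le_order _ _ fun i hi => ?_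
        rw [map_sub, PowerSeries.coeff_smul, smul_eq_mul]
        rcases Nat.lt_succ_iff_lt_or_eq.1 hi with h | rfl
        · rw [hw2 i h, coeff_of_lt_order i (lt_of_lt_of_le (Nat.cast_lt.2 h) hf), mul_zero, sub_zero]
        · rw [div_mul_cancel₀ _ hw1, sub_self]
      have := W.add_mem (ih (n + 1) (by omega) (by omega) hmem) (W.smul_mem a hw)
      rwa [sub_add_cancel] at this
  exact key c c' le_rfl (by omega)

/-- A closed subspace with all orders from `c` on contains all series of order at least `c`. -/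
theorem high_le_of_closed {W : Submodule k (PowerSeries k)}
    (hcl : ∀ f : PowerSeries k, (∀ n : ℕ, ∃ g ∈ W, (n : ℕ∞) ≤ PowerSeries.order (f - g)) → f ∈ W)
    {c : ℕ} (hc : ∀ n, c ≤ n → ∃ w ∈ W, PowerSeries.order w = n) : high c ≤ W := by
  intro f hf
  refine hcl f fun j => ?_
  have h := descent (W := W ⊔ high j) (c := j) (c' := c) le_sup_right
    (fun n hn _ => by obtain ⟨w, hw, hw'⟩ := hc n hn; exact ⟨w, Submodule.mem_sup_left hw, hw'⟩) hf
  obtain ⟨g, hg, r, hr, rfl⟩ := Submodule.mem_sup.1 h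
  exact ⟨g, hg, by rwa [add_sub_cancel_left]⟩

theorem exists_conductor {A : Subalgebra k (PowerSeries k)} (hA : Module.Finite A (PowerSeries k))
    (hbir : ∀ f : PowerSeries k, ∃ a ∈ A, a ≠ 0 ∧ a * f ∈ A) :
    ∃ c, high c ≤ Subalgebra.toSubmodule A := by
  classical
  obtain ⟨s, hs⟩ := hA.fg_top
  choose a ha ha0 haf using hbir
  set d := ∏ g ∈ s, a g with hd
  have hd0 : d ≠ 0 := Finset.prod_ne_zero_iff.2 fun g _ => ha0 g
  have hdA : ∀ g : PowerSeries k, d * g ∈ A := by
    intro g
    have hg : g ∈ Submodule.span A (s : Set (PowerSeries k)) := hs ▸ trivial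
    induction hg using Submodule.span_induction with
    | mem g hg =>
      rw [hd, ← Finset.mul_prod_erase _ _ hg, mul_comm (a g), mul_assoc]
      exact A.mul_mem (A.prod_mem fun x _ => ha x) (haf g)
    | zero => rw [mul_zero]; exact A.zero_mem
    | add x y _ _ hx hy => rw [mul_add]; exact A.add_mem hx hy
    | smul r x _ hx =>
      rw [Subalgebra.smul_def, smul_eq_mul, mul_left_comm]; exact A.mul_mem r.2 hx
  refine ⟨d.order.toNat, fun f hf => ?_⟩
  obtain ⟨g, rfl⟩ : (X : PowerSeries k) ^ d.order.toNat ∣ f :=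
    PowerSeries.X_pow_dvd_iff.2 fun i hi => coeff_of_lt_order i (lt_of_lt_of_le (Nat.cast_lt.2 hi) hf)
  obtain ⟨v, hv⟩ := (PowerSeries.isUnit_iff_constantCoeff (φ := d.divXPowOrder)).2
    (isUnit_iff_ne_zero.2 (by rwa [Ne, constantCoeff_divXPowOrder_eq_zero_iff]))
  have := hdA (((v⁻¹ : (PowerSeries k)ˣ) : PowerSeries k) * g)
  have e : d * (((v⁻¹ : (PowerSeries k)ˣ) : PowerSeries k) * g) = X ^ d.order.toNat * g := by
    conv_lhs => rw [← X_pow_order_mul_divXPowOrder (f := d), ← hv]
    rw [mul_assoc, Units.mul_inv_cancel_left]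
  rwa [e] at this

/-- An element of positive order lies in the Jacobson radical of a closed subalgebra. -/
theorem mem_jacobson {A : Subalgebra k (PowerSeries k)}
    (hcl : ∀ f : PowerSeries k, (∀ n : ℕ, ∃ g ∈ A, (n : ℕ∞) ≤ PowerSeries.order (f - g)) → f ∈ A)
    (e : A) (he : constantCoeff (e : PowerSeries k) = 0) : e ∈ (⊥ : Ideal A).jacobson := by
  rw [Ideal.mem_jacobson_bot]
  intro y
  set z : PowerSeries k := (e : PowerSeries k) * y
  have hz : constantCoeff z = 0 := by simp [z, he]
  obtain ⟨v, hv⟩ : IsUnit (z + 1) := by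
    rw [PowerSeries.isUnit_iff_constantCoeff]; simp [hz]
  have hvA : (↑v⁻¹ : PowerSeries k) ∈ A := by
    refine hcl _ fun n => ⟨∑ i ∈ Finset.range n, (-z) ^ i, A.sum_mem fun i _ =>
      pow_mem (A.neg_mem (A.mul_mem e.2 y.2)) i, ?_⟩
    have hg : (v : PowerSeries k) * ∑ i ∈ Finset.range n, (-z) ^ i = 1 - (-z) ^ n := by
      rw [hv, show z + 1 = 1 - -z by ring]
      exact mul_neg_geom_sum (-z) n
    have : (↑v⁻¹ : PowerSeries k) - ∑ i ∈ Finset.range n, (-z) ^ i = ↑v⁻¹ * (-z) ^ n := by
      linear_combination (-(↑v⁻¹ : PowerSeries k)) * hg + (∑ i ∈ Finset.range n, (-z) ^ i) * v.inv_mul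
    rw [this]
    obtain ⟨z', hz'⟩ : (X : PowerSeries k) ∣ -z := X_dvd_iff.2 (by simp [hz])
    rw [hz', mul_pow]
    refine nat_le_order _ _ fun i hi => ?_
    exact X_pow_dvd_iff.1 ((dvd_mul_right _ _).mul_left _) i hi
  refine isUnit_iff_exists_inv.2 ⟨⟨_, hvA⟩, Subtype.ext ?_⟩
  change ((e : PowerSeries k) * y + 1) * ↑v⁻¹ = 1
  rw [← show (v : PowerSeries k) = z + 1 from hv]
  exact v.mul_inv

/-- A submodule with all orders from `c` on contains all series of order at least `c`. -/
theorem high_le_of_submodule {A : Subalgebra k (PowerSeries k)} (hA : Module.Finite A (PowerSeries k))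
    (hcl : ∀ f : PowerSeries k, (∀ n : ℕ, ∃ g ∈ A, (n : ℕ∞) ≤ PowerSeries.order (f - g)) → f ∈ A)
    (N : Submodule A (PowerSeries k)) {c : ℕ}
    (hc : ∀ n, c ≤ n → ∃ w ∈ N, PowerSeries.order w = n) : high c ≤ N.restrictScalars k := by
  classical
  obtain ⟨e, he, he0⟩ : ∃ e : A, constantCoeff (e : PowerSeries k) = 0 ∧ (e : PowerSeries k) ≠ 0 := by
    by_contra hno
    push_neg at hno
    have hsc : ∀ a : A, ∃ c : k, (a : PowerSeries k) = C c := fun a => by
      refine ⟨constantCoeff (a : PowerSeries k), sub_eq_zero.1 (hno ⟨_, A.sub_mem a.2 (A.algebraMap_mem _)⟩ ?_)⟩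
      simp
    obtain ⟨s, hs⟩ := hA.fg_top
    have : (⊤ : Submodule k (PowerSeries k)) ≤ Submodule.span k (s : Set (PowerSeries k)) := by
      intro g hgt
      clear hgt
      have hg : g ∈ Submodule.span A (s : Set (PowerSeries k)) := hs ▸ trivial
      induction hg using Submodule.span_induction with
      | mem g hg => exact Submodule.subset_span hg
      | zero => exact zero_mem _
      | add x y _ _ hx hy => exact add_mem hx hy
      | smul r x _ hx =>
        obtain ⟨c, hc⟩ := hsc r
        rw [Subalgebra.smul_def, hc, smul_eq_mul, ← PowerSeries.smul_eq_C_mul]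
        exact Submodule.smul_mem _ _ hx
    haveI : Module.Finite k (PowerSeries k) := ⟨⟨s, eq_top_iff.2 this⟩⟩
    have hli : LinearIndependent k fun i : ℕ => (X : PowerSeries k) ^ i := by
      rw [linearIndependent_iff']
      intro t g hg i hi
      have := congrArg (coeff i) hg
      simpa [map_sum, coeff_X_pow, hi] using this
    haveI : Finite ℕ := LinearIndependent.finite_of_isNoetherian hli
    exact not_finite ℕ
  set r := (e : PowerSeries k).order.toNat
  let P : Submodule A (PowerSeries k) :=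
    Submodule.span A {f | (c : ℕ∞) ≤ PowerSeries.order f}
  have hPfg : P.FG := by
    obtain ⟨s, hs⟩ := hA.fg_top
    refine ⟨s.image (fun g => (X : PowerSeries k) ^ c * g), le_antisymm ?_ ?_⟩
    · rw [Submodule.span_le, Finset.coe_image]
      rintro _ ⟨g, -, rfl⟩
      exact Submodule.subset_span (nat_le_order _ _ fun i hi => X_pow_dvd_iff.1 (dvd_mul_right _ _) i hi)
    · rw [Submodule.span_le]
      intro f hf
      obtain ⟨g, rfl⟩ : (X : PowerSeries k) ^ c ∣ f :=
        X_pow_dvd_iff.2 fun i hi => coeff_of_lt_order i (lt_of_lt_of_le (Nat.cast_lt.2 hi) hf)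
      have hg : g ∈ Submodule.span A (s : Set (PowerSeries k)) := hs ▸ trivial
      induction hg using Submodule.span_induction with
      | mem g hg => exact Submodule.subset_span (Finset.mem_image_of_mem _ hg)
      | zero => rw [mul_zero]; exact zero_mem _
      | add x y _ _ hx hy =>
        rw [mul_add]
        refine add_mem (hx ?_) (hy ?_) <;>
          exact nat_le_order _ _ fun i hi => X_pow_dvd_iff.1 (dvd_mul_right _ _) i hi
      | smul a x _ hx =>
        rw [mul_smul_comm]
        exact Submodule.smul_mem _ _ (hx (nat_le_order _ _ fun i hi => X_pow_dvd_iff.1 (dvd_mul_right _ _) i hi))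
  have hle : P ≤ N ⊔ Ideal.span {e} • P := by
    rw [Submodule.span_le]
    intro f hf
    refine descent (W := (N ⊔ Ideal.span {e} • P).restrictScalars k) (c := c + r) ?_
      (fun n hn _ => by obtain ⟨w, hw, hw'⟩ := hc n hn; exact ⟨w, Submodule.mem_sup_left hw, hw'⟩) hf
    intro g hg
    obtain ⟨g', rfl⟩ : (X : PowerSeries k) ^ (c + r) ∣ g :=
      X_pow_dvd_iff.2 fun i hi => coeff_of_lt_order i (lt_of_lt_of_le (Nat.cast_lt.2 hi) hg)
    obtain ⟨v, hv⟩ := (PowerSeries.isUnit_iff_constantCoeff (φ := (e : PowerSeries k).divXPowOrder)).2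
      (isUnit_iff_ne_zero.2 (by rwa [Ne, constantCoeff_divXPowOrder_eq_zero_iff]))
    have hee : (e : PowerSeries k) = X ^ r * (v : PowerSeries k) :=
      (X_pow_order_mul_divXPowOrder (f := (e : PowerSeries k))).symm.trans (by rw [← hv])
    have : (X : PowerSeries k) ^ (c + r) * g' = e • (X ^ c * (((v⁻¹ : (PowerSeries k)ˣ) : PowerSeries k) * g')) := by
      rw [Subalgebra.smul_def, smul_eq_mul, hee, pow_add,
        show X ^ r * (v : PowerSeries k) * (X ^ c * (((v⁻¹ : (PowerSeries k)ˣ) : PowerSeries k) * g')) = X ^ c * X ^ r * (((v : PowerSeries k) * ((v⁻¹ : (PowerSeries k)ˣ) : PowerSeries k)) * g') by ring,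
        Units.mul_inv, one_mul]
    rw [this]
    exact Submodule.mem_sup_right (Submodule.smul_mem_smul (Ideal.mem_span_singleton_self e)
      (Submodule.subset_span (nat_le_order _ _ fun i hi => X_pow_dvd_iff.1 (dvd_mul_right _ _) i hi)))
  have := Submodule.le_of_le_smul_of_le_jacobson_bot hPfg
    ((Ideal.span_singleton_le_iff_mem _).2 (mem_jacobson hcl e he)) hle
  exact fun f hf => this (Submodule.subset_span hf)

end Groth.Agent.TFCurvSG
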