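import Mathlib.Algebra.Group.Submonoid.Basic
import Mathlib.Algebra.Group.Submonoid.Operations
import Mathlib.Data.Set.Card
import Mathlib.Algebra.Order.Group.Nat
import Mathlib.Data.Nat.Count
import Mathlib.Tactic.Ring
import Mathlib.Order.Interval.Finset.Nat
import Mathlib.Order.Interval.Set.Infinite
import Mathlib.Data.Finset.Max
import Mathlib.Data.Nat.Nth
import Mathlib.Tactic.IntervalCases
import Mathlib.Tactic.Linarith

/-! Elementary facts about subsets of `ℕ` stable under a numerical semigroup. -/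

namespace Groth.Agent.TFCurvSG

/-- multiples of an element of `Γ` can be added inside a `Γ`-stable set -/
theorem mul_add_mem (Γ : AddSubmonoid ℕ) (S : Set ℕ)
    (hS : ∀ γ : ℕ, γ ∈ Γ → ∀ s : ℕ, s ∈ S → γ + s ∈ S) {e s : ℕ} (he : e ∈ Γ) (hs : s ∈ S) (k : ℕ) :
    k * e + s ∈ S := by
  have : k • e ∈ Γ := nsmul_mem he k
  rw [smul_eq_mul] at this
  exact hS _ this _ hs

/-- a set meeting no class `0` mod `e`, and each other class at most once, has at most `e - 1` elements -/
theorem encard_le_pred (T : Set ℕ) {e : ℕ} (he : e ≠ 0) (h0 : ∀ n ∈ T, n % e ≠ 0)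
    (hinj : ∀ n ∈ T, ∀ k, 1 ≤ k → n + k * e ∉ T) : T.encard ≤ ((e - 1 : ℕ) : ℕ∞) := by
  have hmap : Set.MapsTo (fun n => n % e) T (↑(Finset.Ico 1 e) : Set ℕ) := fun n hn => by
    have := h0 n hn
    have := Nat.mod_lt n (Nat.pos_of_ne_zero he)
    simp only [Finset.coe_Ico, Set.mem_Ico]; omega
  have key : ∀ a ∈ T, ∀ b ∈ T, a % e = b % e → a ≤ b → a = b := by
    intro a ha b hb hab hle
    obtain ⟨k, hk⟩ := (Nat.modEq_iff_dvd' hle).1 hab
    rw [Nat.mul_comm] at hk
    rcases Nat.eq_zero_or_pos k with rfl | hk1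
    · simp only [Nat.zero_mul] at hk; omega
    · exact absurd (show a + k * e ∈ T by rw [show a + k * e = b by omega]; exact hb) (hinj a ha k hk1)
  have hio : Set.InjOn (fun n => n % e) T := by
    intro a ha b hb hab
    rcases Nat.le_total a b with h | h
    · exact key a ha b hb hab h
    · exact (key b hb a ha hab.symm h).symm
  have h := Set.encard_le_encard_of_injOn hmap hio
  rwa [Set.encard_coe_eq_coe_finsetCard, Nat.card_Ico] at h

/-- number of elements of `S` below a bound, as a count -/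
theorem ncard_inter_Iio_eq_count (S : Set ℕ) [DecidablePred (fun m => m ∈ S)] (n : ℕ) :
    (S ∩ Set.Iio n).ncard = Nat.count (fun m => m ∈ S) n := by
  rw [Nat.count_eq_card_filter_range, ← Set.ncard_coe_finset]
  congr 1
  ext x
  simp [and_comm]

end Groth.Agent.TFCurvSG
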